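-- helper4: renamed COPY (fresh namespace Cfsg.Agent.Helper4.Bsw2) of Cfsg/Agent/Helper4/BswCh_HC9.lean, made so that the S3282 chain can be
-- loaded together with Helper6.StructConst (S0731 side); see departures/helper4.md. Original authors credited in the original file.
import Mathlib
import Cfsg.Prelude.Def_Characters
import Cfsg.Agent.Helper1.BswChDefs
import Cfsg.Agent.Helper4.Bsw2.ClassMult

/-!
# S3282 character side: pieces HC9 (`F_eq_sum`), HC9b (`F_isClassFunction`)
-/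

set_option autoImplicit false
set_option linter.style.haveILetI false

namespace Cfsg.Agent.Helper4.Bsw2.BswCh

open Cfsg.Agent.Helper1.BswCh Cfsg.Agent.Helper4.Bsw2

open scoped ComplexConjugate Classical
open Cfsg.Agent.Lead.Bsw (F nInv)
open Cfsg.Agent.Helper6

universe u

variable {G : Type u} [Group G]

theorem h4_orderOf_conj (g z : G) : orderOf (g * z * g⁻¹) = orderOf z := by
  have := (MulAut.conj g).orderOf_eq z
  rwa [MulAut.conj_apply] at this

/-- `F` is invariant under conjugation (no finiteness needed; same proof as the lead's A32) -/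
theorem h4_F_conj (g y : G) : F (g * y * g⁻¹) = F y := by
  rw [Cfsg.Agent.Lead.Bsw.F_def, Cfsg.Agent.Lead.Bsw.F_def]
  apply Nat.card_congr
  refine
    { toFun := fun p => ⟨(g⁻¹ * p.1.1 * g, g⁻¹ * p.1.2 * g), ?_, ?_, ?_⟩
      invFun := fun p => ⟨(g * p.1.1 * g⁻¹, g * p.1.2 * g⁻¹), ?_, ?_, ?_⟩
      left_inv := ?_
      right_inv := ?_ }
  · have := h4_orderOf_conj g⁻¹ p.1.1
    rw [inv_inv] at this
    show orderOf (g⁻¹ * p.1.1 * g) = 2
    rw [this]; exact p.2.1
  · have := h4_orderOf_conj g⁻¹ p.1.2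
    rw [inv_inv] at this
    show orderOf (g⁻¹ * p.1.2 * g) = 2
    rw [this]; exact p.2.2.1
  · show g⁻¹ * p.1.1 * g * (g⁻¹ * p.1.2 * g) = y
    have h3 := p.2.2.2
    calc g⁻¹ * p.1.1 * g * (g⁻¹ * p.1.2 * g) = g⁻¹ * (p.1.1 * p.1.2) * g := by group
      _ = g⁻¹ * (g * y * g⁻¹) * g := by rw [h3]
      _ = y := by group
  · show orderOf (g * p.1.1 * g⁻¹) = 2
    rw [h4_orderOf_conj]; exact p.2.1
  · show orderOf (g * p.1.2 * g⁻¹) = 2
    rw [h4_orderOf_conj]; exact p.2.2.1
  · show g * p.1.1 * g⁻¹ * (g * p.1.2 * g⁻¹) = g * y * g⁻¹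
    have h3 := p.2.2.2
    calc g * p.1.1 * g⁻¹ * (g * p.1.2 * g⁻¹) = g * (p.1.1 * p.1.2) * g⁻¹ := by group
      _ = g * y * g⁻¹ := by rw [h3]
  · rintro ⟨⟨a, b⟩, h1, h2, h3⟩
    apply Subtype.ext
    show (g * (g⁻¹ * a * g) * g⁻¹, g * (g⁻¹ * b * g) * g⁻¹) = (a, b)
    congr 1 <;> group
  · rintro ⟨⟨a, b⟩, h1, h2, h3⟩
    apply Subtype.ext
    show (g⁻¹ * (g * a * g⁻¹) * g, g⁻¹ * (g * b * g⁻¹) * g) = (a, b)
    congr 1 <;> group

/-- C9b: `F` is a class function -/
theorem F_isClassFunction : Cfsg.IsClassFunction G (fun y => (F y : ℂ)) := by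
  intro g h
  show ((F (h * g * h⁻¹) : ℕ) : ℂ) = (F g : ℂ)
  rw [h4_F_conj]

/-- the class of `t` is the set of involutions -/
theorem h4_mem_class_iff [Fintype G] {t : G} {K : Subgroup G} (I : Inp t K) (x : G) :
    x ∈ classFinset t ↔ orderOf x = 2 := by
  rw [mem_classFinset]
  constructor
  · intro h
    obtain ⟨c, rfl⟩ := isConj_iff.mp h
    rw [h4_orderOf_conj, I.ht]
  · intro h
    exact I.allconj t x I.ht h

theorem h4_card_class [Fintype G] {t : G} {K : Subgroup G} (I : Inp t K) :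
    (classFinset t).card = nInv G := by
  rw [Cfsg.Agent.Lead.Bsw.nInv_def]
  exact (Nat.subtype_card (classFinset t) (h4_mem_class_iff I)).symm

theorem h4_F_eq_count [Fintype G] {t : G} {K : Subgroup G} (I : Inp t K) (y : G) :
    (F y : ℂ) = ∑ a ∈ classFinset t, ∑ b ∈ classFinset t, (if a * b = y then (1 : ℂ) else 0) := by
  rw [← Finset.sum_product (classFinset t) (classFinset t)
    (fun p : G × G => if p.1 * p.2 = y then (1 : ℂ) else 0), Finset.sum_boole]
  congr 1
  rw [Cfsg.Agent.Lead.Bsw.F_def]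
  apply Nat.subtype_card
  intro p
  rw [Finset.mem_filter, Finset.mem_product, h4_mem_class_iff I, h4_mem_class_iff I, and_assoc]

/-- C9: class multiplication constants for the class of involutions -/
theorem F_eq_sum [Fintype G] [Fintype (Cfsg.IrrCharacter G)] {t : G} {K : Subgroup G} (I : Inp t K)
    (y : G) :
    (F y : ℂ) = (nInv G : ℂ) ^ 2 / (Nat.card G : ℂ) *
      ∑ ψ : Cfsg.IrrCharacter G,
        (ψ : G → ℂ) t * (ψ : G → ℂ) t * conj ((ψ : G → ℂ) y) / (ψ : G → ℂ) 1 := by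
  rw [h4_F_eq_count I y, class_mult_count t t y, h4_card_class I, pow_two]

end Cfsg.Agent.Helper4.Bsw2.BswCh
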