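-- helper4: renamed COPY (fresh namespace Cfsg.Agent.Helper4.Bsw2) of Cfsg/Agent/Lead/BswCh_HQ1_2_5.lean, made so that the S3282 chain can be
-- loaded together with Helper6.StructConst (S0731 side); see departures/helper4.md. Original authors credited in the original file.
import Mathlib
import Cfsg.Prelude.Def_Characters
import Cfsg.Agent.Helper1.BswChDefs
import Cfsg.Agent.Helper6.BswCh_HC
import Cfsg.Agent.Helper4.BswCh_HC7_8
import Cfsg.Agent.Helper4.Bsw2.BswCh_HC9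
import Cfsg.Agent.Helper8.BswCh_HU
import Cfsg.Agent.Helper8.BswCh_HM
import Cfsg.Agent.Helper4.Bsw2.BswCh_HV1_HE
import Cfsg.Agent.Helper9.BswCh_HS0
import Cfsg.Agent.Helper4.Bsw2.BswCh_HV2

/-! S3282 character side, pieces HQ1 `pat_deg`, HQ2 `pat_eqs`, HQ5a `pat_val_y`, HQ5 `F_not_conj`. (lead) -/

set_option autoImplicit false

namespace Cfsg.Agent.Helper4.Bsw2.BswCh

open Cfsg.Agent.Helper1.BswCh Cfsg.Agent.Helper4.Bsw2

open scoped ComplexConjugate Classical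
open Cfsg.Agent.Lead.Bsw (F nInv)

universe u

variable {G : Type u} [Group G]

section PatVals

variable [Fintype G] [Fintype (Cfsg.IrrCharacter G)] {t : G} {K : Subgroup G}
  {l0 : Dual K} {e : ℤ} {o χ ξ1 ξ2 : Cfsg.IrrCharacter G} {Θ : Dual K → Cfsg.IrrCharacter G}
  {s1 s2 : ℤ}

theorem lead_sum_ai_m (P0 : Pat0 K e o χ Θ) (m : Dual K) (hm : m * m ≠ 1)
    (T : Cfsg.IrrCharacter G → ℂ) :
    ∑ ψ : Cfsg.IrrCharacter G, (ai K m ψ : ℂ) * T ψ =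
      T o + (e : ℂ) * T χ - (e : ℂ) * T (Θ m) := by
  calc ∑ ψ : Cfsg.IrrCharacter G, (ai K m ψ : ℂ) * T ψ
      = ∑ ψ : Cfsg.IrrCharacter G, ((kd ψ o : ℂ) * T ψ + (e : ℂ) * ((kd ψ χ : ℂ) * T ψ)
          - (e : ℂ) * ((kd ψ (Θ m) : ℂ) * T ψ)) := by
        refine Finset.sum_congr rfl (fun ψ _ => ?_)
        rw [P0.hai m hm ψ]; push_cast; ring
    _ = _ := by
        rw [Finset.sum_sub_distrib, Finset.sum_add_distrib, ← Finset.mul_sum, ← Finset.mul_sum,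
          sum_kd_mul_complex, sum_kd_mul_complex, sum_kd_mul_complex]

theorem lead_sum_ai_l0 (P : Pat K l0 e o χ ξ1 ξ2 Θ s1 s2) (T : Cfsg.IrrCharacter G → ℂ) :
    ∑ ψ : Cfsg.IrrCharacter G, (ai K l0 ψ : ℂ) * T ψ =
      T o + (e : ℂ) * T χ + (s1 : ℂ) * T ξ1 + (s2 : ℂ) * T ξ2 := by
  calc ∑ ψ : Cfsg.IrrCharacter G, (ai K l0 ψ : ℂ) * T ψ
      = ∑ ψ : Cfsg.IrrCharacter G, ((kd ψ o : ℂ) * T ψ + (e : ℂ) * ((kd ψ χ : ℂ) * T ψ)
          + (s1 : ℂ) * ((kd ψ ξ1 : ℂ) * T ψ) + (s2 : ℂ) * ((kd ψ ξ2 : ℂ) * T ψ)) := by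
        refine Finset.sum_congr rfl (fun ψ _ => ?_)
        rw [P.hai0 ψ]; push_cast; ring
    _ = _ := by
        rw [Finset.sum_add_distrib, Finset.sum_add_distrib, Finset.sum_add_distrib,
          ← Finset.mul_sum, ← Finset.mul_sum, ← Finset.mul_sum,
          sum_kd_mul_complex, sum_kd_mul_complex, sum_kd_mul_complex, sum_kd_mul_complex]

theorem lead_dg_o (P0 : Pat0 K e o χ Θ) : dg o = 1 := by
  have h1 : (1 : ℂ) = (dg o : ℂ) := by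
    rw [← (dg_spec o).1, P0.ho]
  exact_mod_cast h1.symm

theorem lead_o_apply (P0 : Pat0 K e o χ Θ) (g : G) : (o : G → ℂ) g = 1 := by
  rw [P0.ho]

/-- Q1: degrees -/
theorem pat_deg (I : Inp t K) (P : Pat K l0 e o χ ξ1 ξ2 Θ s1 s2) :
    (∀ m : Dual K, m * m ≠ 1 → dg (Θ m) = dg χ + e) ∧
    1 + e * dg χ + s1 * dg ξ1 + s2 * dg ξ2 = 0 := by
  have hdo : dg o = 1 := lead_dg_o P.p0
  constructor
  · intro m hm
    have h := ai_deg I m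
    have h2 : ∑ ψ : Cfsg.IrrCharacter G, ai K m ψ * dg ψ = dg o + e * dg χ - e * dg (Θ m) := by
      calc ∑ ψ : Cfsg.IrrCharacter G, ai K m ψ * dg ψ
          = ∑ ψ : Cfsg.IrrCharacter G, (kd ψ o * dg ψ + e * (kd ψ χ * dg ψ)
              - e * (kd ψ (Θ m) * dg ψ)) := by
            refine Finset.sum_congr rfl (fun ψ _ => ?_)
            rw [P.p0.hai m hm ψ]; ring
        _ = _ := by
            rw [Finset.sum_sub_distrib, Finset.sum_add_distrib, ← Finset.mul_sum,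
              ← Finset.mul_sum, sum_kd_mul, sum_kd_mul, sum_kd_mul]
    rw [h2, hdo] at h
    rcases P.p0.he with he | he <;> subst he <;> linarith
  · have h := ai_deg I l0
    have h2 : ∑ ψ : Cfsg.IrrCharacter G, ai K l0 ψ * dg ψ =
        dg o + e * dg χ + s1 * dg ξ1 + s2 * dg ξ2 := by
      calc ∑ ψ : Cfsg.IrrCharacter G, ai K l0 ψ * dg ψ
          = ∑ ψ : Cfsg.IrrCharacter G, (kd ψ o * dg ψ + e * (kd ψ χ * dg ψ)
              + s1 * (kd ψ ξ1 * dg ψ) + s2 * (kd ψ ξ2 * dg ψ)) := by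
            refine Finset.sum_congr rfl (fun ψ _ => ?_)
            rw [P.hai0 ψ]; ring
        _ = _ := by
            rw [Finset.sum_add_distrib, Finset.sum_add_distrib, Finset.sum_add_distrib,
              ← Finset.mul_sum, ← Finset.mul_sum, ← Finset.mul_sum,
              sum_kd_mul, sum_kd_mul, sum_kd_mul, sum_kd_mul]
    rw [h2, hdo] at h
    exact h

theorem lead_t_ne_one (I : Inp t K) : (⟨t, I.htK⟩ : ↥K) ≠ 1 := by
  intro h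
  have h1 : t = 1 := congrArg Subtype.val h
  have := I.ht
  rw [h1, orderOf_one] at this
  omega

theorem lead_e_sq {e : ℤ} (he : e = 1 ∨ e = -1) : (e : ℂ) * (e : ℂ) = 1 := by
  rcases he with rfl | rfl <;> norm_num

theorem lead_chi_t (I : Inp t K) (P : Pat K l0 e o χ ξ1 ξ2 Θ s1 s2) :
    (χ : G → ℂ) t = (e : ℂ) :=
  pat_val_chi I P ⟨t, I.htK⟩ (lead_t_ne_one I)

theorem lead_lam_t_sq (I : Inp t K) (l : Dual K) :
    lam l ⟨t, I.htK⟩ * lam l ⟨t, I.htK⟩ = 1 := by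
  rcases lam_t I l with h | h <;> rw [h] <;> norm_num

theorem lead_theta_t (I : Inp t K) (P : Pat K l0 e o χ ξ1 ξ2 Θ s1 s2) (m : Dual K)
    (hm : m * m ≠ 1) :
    ((Θ m : Cfsg.IrrCharacter G) : G → ℂ) t = (e : ℂ) * (2 * lam m ⟨t, I.htK⟩) := by
  have h := pat_val_theta I P ⟨t, I.htK⟩ (lead_t_ne_one I) m hm
  have h2 : lam m⁻¹ ⟨t, I.htK⟩ = lam m ⟨t, I.htK⟩ := by
    rw [(lam_inv m ⟨t, I.htK⟩).2]
    rcases lam_t I m with h | h <;> rw [h] <;> simp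
  rw [h2] at h
  rw [two_mul]
  exact h

theorem lead_theta_t_sq (I : Inp t K) (P : Pat K l0 e o χ ξ1 ξ2 Θ s1 s2) (m : Dual K)
    (hm : m * m ≠ 1) :
    ((Θ m : Cfsg.IrrCharacter G) : G → ℂ) t * ((Θ m : Cfsg.IrrCharacter G) : G → ℂ) t = 4 := by
  rw [lead_theta_t I P m hm]
  have h1 := lead_lam_t_sq I m
  have h2 := lead_e_sq P.p0.he
  linear_combination (4 * (e : ℂ) * (e : ℂ)) * h1 + 4 * h2

theorem lead_xi_t_sq (I : Inp t K) (P : Pat K l0 e o χ ξ1 ξ2 Θ s1 s2) :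
    (ξ1 : G → ℂ) t * (ξ1 : G → ℂ) t = 1 ∧ (ξ2 : G → ℂ) t * (ξ2 : G → ℂ) t = 1 := by
  have h := pat_val_xi I P ⟨t, I.htK⟩ (lead_t_ne_one I)
  have h1 := lead_lam_t_sq I l0
  have hs1 := lead_e_sq P.hs1
  have hs2 := lead_e_sq P.hs2
  constructor
  · have h' : (ξ1 : G → ℂ) t = - (s1 : ℂ) * lam l0 ⟨t, I.htK⟩ := h.1
    rw [h']
    linear_combination ((s1 : ℂ) * (s1 : ℂ)) * h1 + hs1
  · have h' : (ξ2 : G → ℂ) t = - (s2 : ℂ) * lam l0 ⟨t, I.htK⟩ := h.2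
    rw [h']
    linear_combination ((s2 : ℂ) * (s2 : ℂ)) * h1 + hs2

/-- Q2: the two equations -/
theorem pat_eqs (I : Inp t K) (P : Pat K l0 e o χ ξ1 ξ2 Θ s1 s2) :
    (1 + (e : ℂ) / (dg χ : ℂ) - 4 * (e : ℂ) / ((dg χ : ℂ) + (e : ℂ)) =
      2 * (Nat.card K : ℂ) ^ 2 / (nInv G : ℂ)) ∧
    (1 + (e : ℂ) / (dg χ : ℂ) + (s1 : ℂ) / (dg ξ1 : ℂ) + (s2 : ℂ) / (dg ξ2 : ℂ) =
      2 * (Nat.card K : ℂ) ^ 2 / (nInv G : ℂ)) := by
  have hee := lead_e_sq P.p0.he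
  have hchi := lead_chi_t I P
  have hdeg := pat_deg I P
  constructor
  · obtain ⟨m, hm⟩ := exists_sq_ne_one I
    have hm1 : m ≠ 1 := by
      rintro rfl
      exact hm (one_mul (1 : Dual K))
    have hE := struct_eq I m hm1
    have hE' : ∑ ψ : Cfsg.IrrCharacter G,
        (ai K m ψ : ℂ) * (((ψ : G → ℂ) t) ^ 2 / (ψ : G → ℂ) 1) =
        2 * (Nat.card K : ℂ) ^ 2 / (nInv G : ℂ) := by
      rw [← hE]
      exact Finset.sum_congr rfl (fun ψ _ => (mul_div_assoc _ _ _).symm)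
    rw [lead_sum_ai_m P.p0 m hm] at hE'
    rw [← hE']
    have hth := lead_theta_t_sq I P m hm
    have hdth : ((Θ m : Cfsg.IrrCharacter G) : G → ℂ) 1 = (dg χ : ℂ) + (e : ℂ) := by
      rw [(dg_spec (Θ m)).1, hdeg.1 m hm]; push_cast; ring
    have hth' : (((Θ m : Cfsg.IrrCharacter G) : G → ℂ) t) ^ 2 = 4 := by rw [pow_two]; exact hth
    have hee' : (e : ℂ) ^ 2 = 1 := by rw [pow_two]; exact hee
    rw [lead_o_apply P.p0, lead_o_apply P.p0, hchi, (dg_spec χ).1, hdth, hth', hee']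
    ring
  · have hE := struct_eq I l0 P.hl0.1
    have hE' : ∑ ψ : Cfsg.IrrCharacter G,
        (ai K l0 ψ : ℂ) * (((ψ : G → ℂ) t) ^ 2 / (ψ : G → ℂ) 1) =
        2 * (Nat.card K : ℂ) ^ 2 / (nInv G : ℂ) := by
      rw [← hE]
      exact Finset.sum_congr rfl (fun ψ _ => (mul_div_assoc _ _ _).symm)
    rw [lead_sum_ai_l0 P] at hE'
    rw [← hE']
    obtain ⟨hx1, hx2⟩ := lead_xi_t_sq I P
    have hx1' : ((ξ1 : G → ℂ) t) ^ 2 = 1 := by rw [pow_two]; exact hx1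
    have hx2' : ((ξ2 : G → ℂ) t) ^ 2 = 1 := by rw [pow_two]; exact hx2
    have hee' : (e : ℂ) ^ 2 = 1 := by rw [pow_two]; exact hee
    rw [lead_o_apply P.p0, lead_o_apply P.p0, hchi, (dg_spec χ).1, (dg_spec ξ1).1, (dg_spec ξ2).1,
      hx1', hx2', hee']
    ring

/-- Q5a: values off the conjugates of `K` -/
theorem pat_val_y (I : Inp t K) (P : Pat K l0 e o χ ξ1 ξ2 Θ s1 s2) (y : G)
    (hy : ¬ ConjInto K y) :
    (∀ m : Dual K, m * m ≠ 1 →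
      ((Θ m : Cfsg.IrrCharacter G) : G → ℂ) y = (χ : G → ℂ) y + (e : ℂ)) ∧
    (s1 : ℂ) * (ξ1 : G → ℂ) y + (s2 : ℂ) * (ξ2 : G → ℂ) y = -1 - (e : ℂ) * (χ : G → ℂ) y := by
  have hee := lead_e_sq P.p0.he
  constructor
  · intro m hm
    have h1 := Dl_expand K m y
    rw [Dl_apply_not_conj K m hy, lead_sum_ai_m P.p0 m hm (fun ψ => (ψ : G → ℂ) y),
      lead_o_apply P.p0] at h1
    linear_combination (e : ℂ) * h1 - (((Θ m : Cfsg.IrrCharacter G) : G → ℂ) y - (χ : G → ℂ) y) * hee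
  · have h1 := Dl_expand K l0 y
    rw [Dl_apply_not_conj K l0 hy, lead_sum_ai_l0 P (fun ψ => (ψ : G → ℂ) y),
      lead_o_apply P.p0] at h1
    linear_combination (-1 : ℂ) * h1

/-- Q5: the value of `F` off the conjugates of `K` -/
theorem F_not_conj (I : Inp t K) (P : Pat K l0 e o χ ξ1 ξ2 Θ s1 s2)
    (hs1 : s1 = -e) (hs2 : s2 = -e) (hd1 : 2 * dg ξ1 = dg χ + e) (hd2 : 2 * dg ξ2 = dg χ + e)
    (y : G) (hy : ¬ ConjInto K y) :
    (F y : ℂ) = (nInv G : ℂ) / (2 * (Nat.card K : ℂ)) *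
      (1 + conj ((χ : G → ℂ) y) / (dg χ : ℂ) +
        2 * ((Nat.card K : ℂ) - 1) * (conj ((χ : G → ℂ) y) + (e : ℂ)) / ((dg χ : ℂ) + (e : ℂ))) := by
  have hee := lead_e_sq P.p0.he
  have hdeg := pat_deg I P
  obtain ⟨hvy1, hvy2⟩ := pat_val_y I P y hy
  have hconje : conj (e : ℂ) = (e : ℂ) := map_intCast (starRingEnd ℂ) e
  -- the summand
  have hT0 : ∀ ψ : Cfsg.IrrCharacter G, ψ ≠ o → ψ ≠ χ → ψ ≠ ξ1 → ψ ≠ ξ2 →
      (∀ m : Dual K, m * m ≠ 1 → ψ ≠ Θ m) →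
      (ψ : G → ℂ) t * (ψ : G → ℂ) t * conj ((ψ : G → ℂ) y) / (ψ : G → ℂ) 1 = 0 := by
    intro ψ h1 h2 h3 h4 h5
    have h0 : (ψ : G → ℂ) t = 0 :=
      pat_val_other I P ⟨t, I.htK⟩ (lead_t_ne_one I) ψ h1 h2 h3 h4 h5
    rw [h0, zero_mul, zero_mul, zero_div]
  have hsum := sum_pat P
    (fun ψ : Cfsg.IrrCharacter G =>
      (ψ : G → ℂ) t * (ψ : G → ℂ) t * conj ((ψ : G → ℂ) y) / (ψ : G → ℂ) 1) hT0
  have hFs := F_eq_sum I y
  rw [hsum] at hFs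
  -- nonvanishing
  have hk0 : (Nat.card K : ℂ) ≠ 0 := by
    have := I.k4
    have h : Nat.card K ≠ 0 := by omega
    exact_mod_cast h
  have hn0 : (nInv G : ℂ) ≠ 0 := by
    have h : nInv G ≠ 0 := by
      intro h0
      have := I.hn
      rw [h0, Nat.zero_mod] at this
      omega
    exact_mod_cast h
  have hGc : (Nat.card G : ℂ) = 2 * (Nat.card K : ℂ) * (nInv G : ℂ) := by
    exact_mod_cast I.hG
  have hcoef : (nInv G : ℂ) ^ 2 / (Nat.card G : ℂ) = (nInv G : ℂ) / (2 * (Nat.card K : ℂ)) := by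
    rw [hGc]
    field_simp
  -- values of the summand
  have hTo : (o : G → ℂ) t * (o : G → ℂ) t * conj ((o : G → ℂ) y) / (o : G → ℂ) 1 = 1 := by
    rw [lead_o_apply P.p0, lead_o_apply P.p0, lead_o_apply P.p0, map_one]
    norm_num
  have hTchi : (χ : G → ℂ) t * (χ : G → ℂ) t * conj ((χ : G → ℂ) y) / (χ : G → ℂ) 1 =
      conj ((χ : G → ℂ) y) / (dg χ : ℂ) := by
    rw [lead_chi_t I P, (dg_spec χ).1, hee, one_mul]
  have hfe1 : (dg ξ1 : ℂ) = ((dg χ : ℂ) + (e : ℂ)) / 2 := by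
    have h : (2 : ℂ) * (dg ξ1 : ℂ) = (dg χ : ℂ) + (e : ℂ) := by exact_mod_cast hd1
    rw [← h]; ring
  have hfe2 : (dg ξ2 : ℂ) = ((dg χ : ℂ) + (e : ℂ)) / 2 := by
    have h : (2 : ℂ) * (dg ξ2 : ℂ) = (dg χ : ℂ) + (e : ℂ) := by exact_mod_cast hd2
    rw [← h]; ring
  obtain ⟨hx1, hx2⟩ := lead_xi_t_sq I P
  have hxy : (ξ1 : G → ℂ) y + (ξ2 : G → ℂ) y = (e : ℂ) + (χ : G → ℂ) y := by
    rw [hs1, hs2] at hvy2
    push_cast at hvy2
    linear_combination (-(e : ℂ)) * hvy2 - ((ξ1 : G → ℂ) y + (ξ2 : G → ℂ) y - (χ : G → ℂ) y) * hee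
  have hxyc : conj ((ξ1 : G → ℂ) y) + conj ((ξ2 : G → ℂ) y) =
      (e : ℂ) + conj ((χ : G → ℂ) y) := by
    rw [← map_add, hxy, map_add, hconje]
  have hTxi : (ξ1 : G → ℂ) t * (ξ1 : G → ℂ) t * conj ((ξ1 : G → ℂ) y) / (ξ1 : G → ℂ) 1 +
      (ξ2 : G → ℂ) t * (ξ2 : G → ℂ) t * conj ((ξ2 : G → ℂ) y) / (ξ2 : G → ℂ) 1 =
      2 * (conj ((χ : G → ℂ) y) + (e : ℂ)) / ((dg χ : ℂ) + (e : ℂ)) := by
    rw [hx1, hx2, (dg_spec ξ1).1, (dg_spec ξ2).1, hfe1, hfe2, one_mul, one_mul, ← add_div, hxyc]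
    rw [div_div_eq_mul_div]
    ring
  have hTth : ∀ m : Dual K, m * m ≠ 1 →
      ((Θ m : Cfsg.IrrCharacter G) : G → ℂ) t * ((Θ m : Cfsg.IrrCharacter G) : G → ℂ) t *
        conj (((Θ m : Cfsg.IrrCharacter G) : G → ℂ) y) / ((Θ m : Cfsg.IrrCharacter G) : G → ℂ) 1 =
      4 * (conj ((χ : G → ℂ) y) + (e : ℂ)) / ((dg χ : ℂ) + (e : ℂ)) := by
    intro m hm
    have hdth : ((Θ m : Cfsg.IrrCharacter G) : G → ℂ) 1 = (dg χ : ℂ) + (e : ℂ) := by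
      rw [(dg_spec (Θ m)).1, hdeg.1 m hm]; push_cast; ring
    rw [lead_theta_t_sq I P m hm, hdth, hvy1 m hm, map_add, hconje]
  have hsumTh : ∑ m : Dual K, (if m * m = 1 then (0 : ℂ) else
      ((Θ m : Cfsg.IrrCharacter G) : G → ℂ) t * ((Θ m : Cfsg.IrrCharacter G) : G → ℂ) t *
        conj (((Θ m : Cfsg.IrrCharacter G) : G → ℂ) y) / ((Θ m : Cfsg.IrrCharacter G) : G → ℂ) 1) =
      ((Nat.card K : ℂ) - 2) *
        (4 * (conj ((χ : G → ℂ) y) + (e : ℂ)) / ((dg χ : ℂ) + (e : ℂ))) := by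
    rw [← sum_sq_ne_one_const I l0 P.hl0 P.hl0u]
    refine Finset.sum_congr rfl (fun m _ => ?_)
    split_ifs with h
    · rfl
    · exact hTth m h
  rw [hFs, hcoef]
  rw [hsumTh, hTo, hTchi, add_assoc (1 + _) _ _, hTxi]
  ring

end PatVals

end Cfsg.Agent.Helper4.Bsw2.BswCh
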